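import Groth.Agent.S2082
import Groth.Agent.FlatSpread.Fp
import Mathlib.RingTheory.Smooth.Fiber
import Mathlib.RingTheory.Unramified.LocalRing
import Mathlib.RingTheory.Flat.Localization

/-!
Unramified between a regular base and a Cohen–Macaulay source of equal dimension is étale.
-/

set_option autoImplicit false
universe u

namespace Groth.Agent.UnramCMEtale

open IsLocalRing

/-- Flat and unramified at a prime implies étale at it. -/
theorem isEtaleAt_of_flat {A B : Type u} [CommRing A] [CommRing B] [Algebra A B]
    [Algebra.FinitePresentation A B] (q : Ideal B) [q.IsPrime] [Algebra.IsUnramifiedAt A q]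
    (hflat : Module.Flat A (Localization.AtPrime q)) : Algebra.IsEtaleAt A q := by
  haveI : Module.FinitePresentation B B := Module.finitePresentation_of_projective B B
  have hmem : (⟨q, inferInstance⟩ : PrimeSpectrum B) ∈
      {q' : PrimeSpectrum B | Module.Flat A (LocalizedModule q'.asIdeal.primeCompl B)} :=
    Module.Flat.of_linearEquiv ((IsLocalizedModule.iso q.primeCompl
      (Algebra.linearMap B (Localization.AtPrime q))).restrictScalars A)
  have hmemU : (⟨q, inferInstance⟩ : PrimeSpectrum B) ∈ Algebra.unramifiedLocus A B :=
    ‹Algebra.IsUnramifiedAt A q›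
  obtain ⟨_, ⟨h, rfl⟩, hqh, hsub⟩ :=
    PrimeSpectrum.isTopologicalBasis_basic_opens.exists_subset_of_mem_open
      (Set.mem_inter hmem hmemU)
      ((FlatSpread.isOpen_flatLocus (R := A) (S := B) (M := B)).inter
        Algebra.isOpen_unramifiedLocus)
  let C := Localization.Away h
  haveI : Algebra.FormallyUnramified A C :=
    Algebra.basicOpen_subset_unramifiedLocus_iff.1 (hsub.trans Set.inter_subset_right)
  haveI : Algebra.FinitePresentation B C := IsLocalization.Away.finitePresentation h
  haveI : Algebra.FinitePresentation A C := Algebra.FinitePresentation.trans A B C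
  haveI : Module.Flat A C := by
    refine Module.flat_of_isLocalized_maximal (R := A) (S := C) C
      (fun (P : Ideal C) (_ : P.IsMaximal) => Localization.AtPrime P)
      (fun P _ => Algebra.linearMap C (Localization.AtPrime P)) fun P _ => ?_
    haveI : IsLocalization.AtPrime (Localization.AtPrime P) (P.under B) :=
      IsLocalization.isLocalization_isLocalization_atPrime_isLocalization (.powers h) _ P
    have hnot : h ∉ P.under B := fun hh => (Ideal.IsMaximal.isPrime ‹P.IsMaximal›).ne_top
      (Ideal.eq_top_of_isUnit_mem _ hh (IsLocalization.Away.algebraMap_isUnit h))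
    have hfl : Module.Flat A (LocalizedModule (P.under B).primeCompl B) :=
      (hsub (show (⟨P.under B, inferInstance⟩ : PrimeSpectrum B) ∈
        ((PrimeSpectrum.basicOpen h : TopologicalSpace.Opens _) : Set _) from hnot)).1
    exact Module.Flat.of_linearEquiv ((IsLocalizedModule.iso (P.under B).primeCompl
      (Algebra.linearMap B (Localization.AtPrime P))).restrictScalars A).symm
  haveI : Algebra.Etale A C := Algebra.Etale.of_formallyUnramified_of_flat
  exact (Algebra.basicOpen_subset_etaleLocus_iff (R := A) (f := h)).mpr inferInstance hqh

theorem isEtaleAt_of_dim_eq (A B : Type u) [CommRing A] [CommRing B] [Algebra A B]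
    [IsNoetherianRing A] [IsNoetherianRing B] [Algebra.FiniteType A B] (q : Ideal B) [q.IsPrime]
    (hdim : ringKrullDim (Localization.AtPrime (q.under A)) = ringKrullDim (Localization.AtPrime q))
    [IsRegularLocalRing (Localization.AtPrime (q.under A))]
    [LocCoh.IsCohenMacaulayLocalRing (Localization.AtPrime q)] [Algebra.IsUnramifiedAt A q] :
    Algebra.IsEtaleAt A q := by
  haveI : Algebra.FinitePresentation A B := Algebra.FinitePresentation.of_finiteType.1 inferInstance
  let p := q.under A
  letI := Localization.AtPrime.algebraOfLiesOver p q
  haveI : Algebra.EssFiniteType (Localization.AtPrime p) (Localization.AtPrime q) := by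
    haveI : Algebra.EssFiniteType B (Localization.AtPrime q) := .of_isLocalization _ q.primeCompl
    haveI : Algebra.EssFiniteType A (Localization.AtPrime q) := .comp _ B _
    exact .of_comp A _ _
  haveI : IsLocalHom (algebraMap (Localization.AtPrime p) (Localization.AtPrime q)) := by
    rw [Localization.AtPrime.IsLiesOverAlgebra.algebraMap_eq]
    infer_instance
  have hmap : (maximalIdeal (Localization.AtPrime p)).map
      (algebraMap (Localization.AtPrime p) (Localization.AtPrime q)) =
        maximalIdeal (Localization.AtPrime q) :=
    (Algebra.FormallyUnramified.iff_map_maximalIdeal_eq.1 inferInstance).2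
  haveI : Module.Flat (Localization.AtPrime p) (Localization.AtPrime q) := by
    refine S2082.result ?_
    have e0 : ringKrullDim (Localization.AtPrime q ⧸ maximalIdeal (Localization.AtPrime q)) = 0 :=
      ringKrullDim_eq_zero_of_field (ResidueField (Localization.AtPrime q))
    rw [hmap, e0, add_zero]
    exact hdim.symm
  exact isEtaleAt_of_flat q
    (Module.Flat.trans A (Localization.AtPrime p) (Localization.AtPrime q))

end Groth.Agent.UnramCMEtale
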